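import Mathlib
import Cfsg.Prelude.Def_LieExceptional
import Cfsg.Agent.Lib.Frobenius.CN.Group
import Cfsg.Agent.Lib.ElementOrders.FPFFactor
import Cfsg.Agent.Lib.Frobenius.Kernel

/-!
A nilpotent self-centralizing subgroup of odd index containing an involution, in an insoluble
group: the group is a Zassenhaus group on the cosets of the normalizer (involution counting).
-/

set_option autoImplicit false
set_option linter.all false
set_option maxHeartbeats 800000

namespace CfsgLib.MetacyclicP.CTI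

open MulAction

universe u

variable {G : Type u} [Group G]

/-- The configuration. -/
structure Setting (T : Subgroup G) (t : G) : Prop where
  nil : Group.IsNilpotent T
  cl : ∀ a ∈ T, a ≠ 1 → Subgroup.centralizer ({a} : Set G) ≤ T
  ord : orderOf t = 2
  eq : Subgroup.centralizer ({t} : Set G) = T
  odd : Odd T.index
  notSolv : ¬ Group.IsSolvable G
  oddSolv : ∀ H : Subgroup G, Odd (Nat.card H) → Group.IsSolvable H

variable [Finite G] {T : Subgroup G} {t : G} (S : Setting T t)
include S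

local notation "N" => Subgroup.normalizer (T : Set G)
local notation "Ω" => G ⧸ Subgroup.normalizer (T : Set G)

theorem Setting.mem : t ∈ T := S.eq ▸ Subgroup.mem_centralizer_singleton_iff.2 rfl

theorem Setting.coprime : (Nat.card T).Coprime T.index := by
  haveI := Fintype.ofFinite G
  exact CfsgLib.Frobenius.CN.coprime_card_index S.cl S.nil

theorem Setting.odd_relIndex : Odd (T.relIndex N) :=
  Odd.of_dvd_nat S.odd (Subgroup.relIndex_dvd_index_of_le Subgroup.le_normalizer)

theorem Setting.pow_mem {x : G} (hx : x ∈ N) : x ^ T.relIndex N ∈ T := by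
  haveI : (T.subgroupOf N).Normal := Subgroup.normal_in_normalizer
  exact Subgroup.mem_subgroupOf.1 ((T.subgroupOf N).pow_index_mem ⟨x, hx⟩)

theorem Setting.mem_of_pow {x : G} (hx : x ∈ N) {m : ℕ} (hm : x ^ m = 1)
    (hc : m.Coprime (T.relIndex N)) : x ∈ T := by
  have h : x ^ ((Nat.gcd m (T.relIndex N) : ℕ) : ℤ) ∈ T := by
    rw [Nat.gcd_eq_gcd_ab, zpow_add, zpow_mul, zpow_mul, zpow_natCast, zpow_natCast, hm, one_zpow,
      one_mul]
    exact T.zpow_mem (S.pow_mem hx) _
  rwa [hc.gcd_eq_one, Nat.cast_one, zpow_one] at h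

theorem Setting.mem_of_involution {v : G} (hv : v ∈ N) (h2 : v ^ 2 = 1) : v ∈ T :=
  S.mem_of_pow hv h2 (Nat.coprime_two_left.2 S.odd_relIndex)

theorem Setting.mem_of_card {x : G} (hx : x ∈ N) (hm : x ^ Nat.card T = 1) : x ∈ T :=
  S.mem_of_pow hx hm (Nat.Coprime.of_dvd_right
    (Subgroup.relIndex_dvd_index_of_le Subgroup.le_normalizer) S.coprime)

theorem Setting.mem_normalizer_of_conj {x a : G} (ha : a ∈ T) (ha1 : a ≠ 1)
    (h : x⁻¹ * a * x ∈ T) : x ∈ N := by
  haveI := Fintype.ofFinite G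
  exact CfsgLib.Frobenius.CN.mem_normalizer_of_conj S.cl S.nil ha ha1 h

theorem Setting.card_normalizer : Nat.card (Subgroup.normalizer (T : Set G)) = Nat.card T * T.relIndex N := by
  rw [← Subgroup.card_mul_index (T.subgroupOf N),
    Nat.card_congr (Subgroup.subgroupOfEquivOfLe (Subgroup.le_normalizer (H := T))).toEquiv]
  rfl

theorem Setting.one_lt_d : 1 < T.relIndex N := by
  haveI := S.nil
  by_contra hle
  have hd : T.relIndex N = 1 := by
    have : T.relIndex N ≠ 0 := S.odd_relIndex.pos.ne'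
    omega
  have hNT : N = T := le_antisymm (Subgroup.relIndex_eq_one.1 hd) Subgroup.le_normalizer
  have ht1 : t ≠ 1 := fun h => by have := S.ord; rw [h, orderOf_one] at this; omega
  have hTtop : T ≠ ⊤ := fun h => S.notSolv <| by
    have : Group.IsSolvable T := inferInstance
    rw [h] at this
    exact Group.isSolvable_of_surjective (f := (⊤ : Subgroup G).subtype) fun g => ⟨⟨g, trivial⟩, rfl⟩
  have hF : Cfsg.IsFrobeniusComplement T := by
    refine ⟨fun h => ht1 (Subgroup.mem_bot.1 (h ▸ S.mem)), hTtop, fun g hg => ?_⟩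
    refine (Subgroup.eq_bot_iff_forall _).2 fun x hx => ?_
    obtain ⟨h1, h2⟩ := Subgroup.mem_inf.1 hx
    by_contra hx1
    rw [CfsgLib.Frobenius.mem_conj_smul] at h2
    exact hg (hNT ▸ S.mem_normalizer_of_conj h1 hx1 h2)
  obtain ⟨K, -, hKn, hc⟩ := CfsgLib.Frobenius.exists_kernel hF
  haveI := hKn
  haveI := S.oddSolv K (by rw [← hc.index_eq_card]; exact S.odd)
  haveI : Group.IsSolvable (G ⧸ K) :=
    Group.isSolvable_of_surjective (f := (QuotientGroup.mk' K).comp T.subtype) fun y => by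
      obtain ⟨g, rfl⟩ := QuotientGroup.mk'_surjective K y
      obtain ⟨⟨k, a⟩, he⟩ := hc.2 g
      refine ⟨a, ?_⟩
      show QuotientGroup.mk' K (a : G) = QuotientGroup.mk' K g
      rw [← he, map_mul, show QuotientGroup.mk' K (k : G) = 1 from (QuotientGroup.eq_one_iff _).2 k.2,
        one_mul]
  exact S.notSolv (Group.isSolvable_of_ker_le_range K.subtype (QuotientGroup.mk' K)
    (by rw [QuotientGroup.ker_mk', Subgroup.range_subtype]))

omit S in
theorem smul_o_eq {g : G} :
    g • ((1 : G) : Ω) = ((1 : G) : Ω) ↔ g ∈ N := by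
  rw [← mem_stabilizer_iff, MulAction.stabilizer_quotient]

/-- `T` is semiregular away from the base point. -/
theorem Setting.semiregular {x : G} (hx : x ∈ T) {b : Ω} (hb : b ≠ ((1 : G) : Ω))
    (h : x • b = b) : x = 1 := by
  induction b using QuotientGroup.induction_on with
  | H g =>
    by_contra hx1
    have h1 : g⁻¹ * x * g ∈ N := by
      have h2 : ((x * g : G) : Ω) = (g : Ω) := h
      have h3 := QuotientGroup.eq.1 h2.symm
      rwa [mul_assoc]
    have h4 : g⁻¹ * x * g ∈ T := S.mem_of_card h1 (by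
      have := conj_pow (i := Nat.card T) (a := g⁻¹) (b := x)
      rw [inv_inv] at this
      rw [this, show x ^ Nat.card T = 1 from congrArg Subtype.val (pow_card_eq_one' (x := (⟨x, hx⟩ : T)))]
      simp)
    have hg : g ∈ N := S.mem_normalizer_of_conj hx hx1 h4
    exact hb (QuotientGroup.eq.2 (by simpa using Subgroup.inv_mem _ hg))

/-- An involution fixes only one point. -/
theorem Setting.involution_fixed {v : G} (hv : orderOf v = 2) {a b : Ω} (ha : v • a = a)
    (hb : v • b = b) : a = b := by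
  induction a using QuotientGroup.induction_on with
  | H g =>
    by_contra hne
    set w := g⁻¹ * v * g with hw
    have hb' : g⁻¹ • b ≠ ((1 : G) : Ω) := fun e => hne (by
      rw [inv_smul_eq_iff] at e
      rw [e]
      show (g : Ω) = ((g * 1 : G) : Ω)
      rw [mul_one])
    have hwo : w ∈ N := by
      rw [← smul_o_eq, hw, mul_smul, mul_smul, inv_smul_eq_iff]
      show v • ((g * 1 : G) : Ω) = ((g * 1 : G) : Ω)
      rw [mul_one]
      exact ha
    have hv2 : v ^ 2 = 1 := hv ▸ pow_orderOf_eq_one v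
    have hw2 : w ^ 2 = 1 := by
      have := conj_pow (i := 2) (a := g⁻¹) (b := v)
      rw [inv_inv] at this
      rw [hw, this, hv2]; simp
    have h1 := S.semiregular (S.mem_of_involution hwo hw2) hb' (by
      rw [hw, mul_smul, mul_smul, smul_inv_smul, hb])
    have hv1 : v = 1 := by
      calc v = g * w * g⁻¹ := by rw [hw]; group
        _ = 1 := by rw [h1]; group
    rw [hv1, orderOf_one] at hv
    omega

theorem Setting.exists_fixed {v : G} (hv : orderOf v = 2) : ∃ a : Ω, v • a = a := by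
  classical
  haveI := Fintype.ofFinite Ω
  haveI : Fact (Nat.Prime 2) := ⟨Nat.prime_two⟩
  have hodd : ¬ 2 ∣ Fintype.card Ω := by
    rw [← Nat.card_eq_fintype_card, ← Subgroup.index_eq_card]
    exact (Odd.of_dvd_nat S.odd (Subgroup.index_dvd_of_le Subgroup.le_normalizer)).not_two_dvd_nat
  have hσ : (MulAction.toPermHom G Ω v) ^ 2 ^ 1 = 1 := by
    rw [← map_pow, pow_one, ← hv, pow_orderOf_eq_one, map_one]
  exact Equiv.Perm.exists_fixed_point_of_prime hodd hσ

omit S in
/-- The stabiliser of two points. -/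
abbrev pairStab (a b : Ω) : Subgroup G := stabilizer G a ⊓ stabilizer G b

theorem Setting.pairStab_disjoint {b : Ω} (hb : b ≠ ((1 : G) : Ω)) {x : G}
    (hx : x ∈ pairStab ((1 : G) : Ω) b) (hxT : x ∈ T) : x = 1 :=
  S.semiregular hxT hb (mem_stabilizer_iff.1 (Subgroup.mem_inf.1 hx).2)

theorem Setting.card_pairStab_le {b : Ω} (hb : b ≠ ((1 : G) : Ω)) :
    Nat.card (pairStab ((1 : G) : Ω) b) ≤ T.relIndex N := by
  have h1 : pairStab ((1 : G) : Ω) b ≤ N := fun x hx =>
    smul_o_eq.1 (mem_stabilizer_iff.1 (Subgroup.mem_inf.1 hx).1)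
  have h2 : T.relIndex (pairStab ((1 : G) : Ω) b) = Nat.card (pairStab ((1 : G) : Ω) b) := by
    have : T.subgroupOf (pairStab ((1 : G) : Ω) b) = ⊥ :=
      (Subgroup.eq_bot_iff_forall _).2 fun x hx =>
        Subtype.ext (S.pairStab_disjoint hb x.2 (Subgroup.mem_subgroupOf.1 hx))
    rw [Subgroup.relIndex, this, Subgroup.index_bot]
  rw [← h2]
  exact Subgroup.relIndex_le_of_le_right h1 S.odd_relIndex.pos.ne'

/-- The key count: every two-point stabiliser is inverted by an involution swapping the points. -/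
theorem Setting.exists_swap {b : Ω} (hb : b ≠ ((1 : G) : Ω)) :
    Nat.card (pairStab ((1 : G) : Ω) b) = T.relIndex N ∧
    ∃ u : G, u ^ 2 = 1 ∧ u • ((1 : G) : Ω) = b ∧ u • b = ((1 : G) : Ω) ∧
      ∀ x ∈ pairStab ((1 : G) : Ω) b, u * x * u⁻¹ = x⁻¹ := by
  classical
  haveI := Fintype.ofFinite G
  haveI := Fintype.ofFinite Ω
  set o : Ω := ((1 : G) : Ω) with ho
  set d := T.relIndex N with hd
  let I₀ : Finset G := Finset.univ.filter fun v => orderOf v = 2 ∧ v • o = o
  let J : Finset G := Finset.univ.filter fun v => orderOf v = 2 ∧ v • o ≠ o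
  let K : Ω → Finset G := fun c => J.filter fun v => v • o = c
  -- at least `d` involutions fix the base point
  have hI : d ≤ I₀.card := by
    let f : N → G := fun n => (n : G) * t * (n : G)⁻¹
    have hf : ∀ n : N, f n ∈ I₀ := fun n => by
      refine Finset.mem_filter.2 ⟨Finset.mem_univ _, ?_, ?_⟩
      · rw [← S.ord]; exact (MulAut.conj (n : G)).orderOf_eq t
      · exact smul_o_eq.2 (Subgroup.mul_mem _ (Subgroup.mul_mem _ n.2 (Subgroup.le_normalizer S.mem)) (Subgroup.inv_mem _ n.2))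
    let f' : N ⧸ T.subgroupOf N → {v // v ∈ I₀} := fun q => ⟨f q.out, hf _⟩
    have hinj : Function.Injective f' := by
      intro q r he
      have he' : f q.out = f r.out := congrArg Subtype.val he
      rw [← QuotientGroup.out_eq' q, ← QuotientGroup.out_eq' r]
      refine QuotientGroup.eq.2 (Subgroup.mem_subgroupOf.2
        (S.eq.le (Subgroup.mem_centralizer_singleton_iff.2 ?_)))
      show (q.out : G)⁻¹ * (r.out : G) * t = t * ((q.out : G)⁻¹ * (r.out : G))
      simp only [f] at he'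
      calc ((q.out : G))⁻¹ * (r.out : G) * t
          = (q.out : G)⁻¹ * ((r.out : G) * t * (r.out : G)⁻¹) * (r.out : G) := by group
        _ = (q.out : G)⁻¹ * ((q.out : G) * t * (q.out : G)⁻¹) * (r.out : G) := by rw [he']
        _ = t * ((q.out : G)⁻¹ * (r.out : G)) := by group
    have := Nat.card_le_card_of_injective f' hinj
    rw [← Subgroup.index_eq_card, Nat.card_eq_fintype_card, Fintype.card_coe] at this
    exact this
  -- each point contributes at most `d` involutions
  have hsw : ∀ c : Ω, ∀ v ∈ K c, v ^ 2 = 1 ∧ v • o = c ∧ v • c = o := by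
    intro c v hv
    obtain ⟨hvJ, hvc⟩ := Finset.mem_filter.1 hv
    have h2 : v ^ 2 = 1 := (Finset.mem_filter.1 hvJ).2.1 ▸ pow_orderOf_eq_one v
    exact ⟨h2, hvc, by rw [← hvc, ← mul_smul, ← sq, h2, one_smul]⟩
  have hK : ∀ c : Ω, c ≠ o → (K c).card ≤ Nat.card (pairStab o c) := by
    intro c hc
    rcases (K c).eq_empty_or_nonempty with h | ⟨u, hu⟩
    · rw [h, Finset.card_empty]; exact Nat.zero_le _
    obtain ⟨hu2, huo, huc⟩ := hsw c u hu
    let g : {v // v ∈ K c} → pairStab o c := fun v => ⟨u * v.1, by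
      obtain ⟨-, hvo, hvc⟩ := hsw c v.1 v.2
      refine Subgroup.mem_inf.2 ⟨mem_stabilizer_iff.2 ?_, mem_stabilizer_iff.2 ?_⟩
      · rw [mul_smul, hvo, huc]
      · rw [mul_smul, hvc, huo]⟩
    have hg : Function.Injective g := fun v w e =>
      Subtype.ext (mul_left_cancel (congrArg Subtype.val e))
    have := Nat.card_le_card_of_injective g hg
    rwa [Nat.card_eq_fintype_card, Fintype.card_coe] at this
  -- the total
  have hsum : ∑ c ∈ Finset.univ.erase o, (K c).card = (Finset.univ.erase o).card * I₀.card := by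
    rw [← Finset.card_eq_sum_card_fiberwise (fun v hv => Finset.mem_erase.2
      ⟨(Finset.mem_filter.1 hv).2.2, Finset.mem_univ _⟩)]
    choose fx hfx using fun v : {v // v ∈ J} => S.exists_fixed (Finset.mem_filter.1 v.2).2.1
    have hfx' : ∀ v : {v // v ∈ J}, fx v ∈ Finset.univ.erase o := fun v =>
      Finset.mem_erase.2 ⟨fun e => (Finset.mem_filter.1 v.2).2.2 (e ▸ hfx v), Finset.mem_univ _⟩
    have hout : ∀ a : Ω, a.out • o = a := fun a => by
      show ((a.out * 1 : G) : Ω) = a
      rw [mul_one, QuotientGroup.out_eq']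
    let e : {v // v ∈ J} → {a // a ∈ Finset.univ.erase o} × {v // v ∈ I₀} := fun v =>
      (⟨fx v, hfx' v⟩, ⟨(fx v).out⁻¹ * v.1 * (fx v).out, Finset.mem_filter.2 ⟨Finset.mem_univ _, by
        rw [← (Finset.mem_filter.1 v.2).2.1]
        simpa using (MulAut.conj (fx v).out⁻¹).orderOf_eq v.1, by
        rw [mul_smul, mul_smul, hout, hfx, inv_smul_eq_iff, hout]⟩⟩)
    have he : Function.Bijective e := by
      constructor
      · intro v w hvw
        have h1 : fx v = fx w := congrArg (fun p => p.1.1) hvw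
        have h2 : (fx v).out⁻¹ * v.1 * (fx v).out = (fx w).out⁻¹ * w.1 * (fx w).out :=
          congrArg (fun p => p.2.1) hvw
        rw [h1] at h2
        exact Subtype.ext (by simpa using h2)
      · rintro ⟨⟨a, ha⟩, ⟨w, hw⟩⟩
        obtain ⟨-, hw2, hwo⟩ := Finset.mem_filter.1 hw
        have hv2 : orderOf (a.out * w * a.out⁻¹) = 2 := by
          rw [← hw2]; exact (MulAut.conj a.out).orderOf_eq w
        have hva : (a.out * w * a.out⁻¹) • a = a := by
          have h1 : a.out⁻¹ • a = o := by rw [inv_smul_eq_iff, hout]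
          rw [mul_smul, mul_smul, h1, hwo, hout]
        have hvJ : a.out * w * a.out⁻¹ ∈ J := Finset.mem_filter.2 ⟨Finset.mem_univ _, hv2,
          fun e' => (Finset.mem_erase.1 ha).1 (S.involution_fixed hv2 hva e')⟩
        have hfa : fx ⟨_, hvJ⟩ = a := S.involution_fixed hv2 (hfx ⟨_, hvJ⟩) hva
        refine ⟨⟨_, hvJ⟩, Prod.ext (Subtype.ext hfa) (Subtype.ext ?_)⟩
        show (fx ⟨_, hvJ⟩).out⁻¹ * _ * (fx ⟨_, hvJ⟩).out = w
        rw [hfa]; group
    rw [← Fintype.card_coe J, Fintype.card_of_bijective he, Fintype.card_prod, Fintype.card_coe,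
      Fintype.card_coe]
  have hle : ∀ c ∈ Finset.univ.erase o, (K c).card ≤ d := fun c hc =>
    (hK c (Finset.mem_erase.1 hc).1).trans (S.card_pairStab_le (Finset.mem_erase.1 hc).1)
  have heq : (K b).card = d := by
    refine ((Finset.sum_eq_sum_iff_of_le hle).1 (le_antisymm (Finset.sum_le_sum hle) ?_)) b
      (Finset.mem_erase.2 ⟨hb, Finset.mem_univ _⟩)
    rw [hsum, Finset.sum_const, smul_eq_mul]
    exact Nat.mul_le_mul_left _ hI
  have hcard : Nat.card (pairStab o b) = d :=
    le_antisymm (S.card_pairStab_le hb) (heq ▸ hK b hb)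
  refine ⟨hcard, ?_⟩
  obtain ⟨u, hu⟩ := Finset.card_pos.1 (by rw [heq]; exact S.odd_relIndex.pos)
  obtain ⟨hu2, huo, hub⟩ := hsw b u hu
  refine ⟨u, hu2, huo, hub, fun x hx => ?_⟩
  let g : {v // v ∈ K b} → pairStab o b := fun v => ⟨u * v.1, by
    obtain ⟨-, hvo, hvb⟩ := hsw b v.1 v.2
    refine Subgroup.mem_inf.2 ⟨mem_stabilizer_iff.2 ?_, mem_stabilizer_iff.2 ?_⟩
    · rw [mul_smul, hvo, hub]
    · rw [mul_smul, hvb, huo]⟩
  have hgi : Function.Injective g := fun v w e =>
    Subtype.ext (mul_left_cancel (congrArg Subtype.val e))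
  have hgb : Function.Bijective g := (Fintype.bijective_iff_injective_and_card g).2 ⟨hgi, by
    rw [Fintype.card_coe, ← Nat.card_eq_fintype_card, hcard, heq]⟩
  obtain ⟨v, hv⟩ := hgb.2 ⟨x, hx⟩
  have hxv : x = u * v.1 := (congrArg Subtype.val hv).symm
  have hv2 := (hsw b v.1 v.2).1
  rw [sq] at hu2 hv2
  rw [hxv, mul_inv_rev, inv_eq_of_mul_eq_one_right hv2]
  calc u * (u * v.1) * u⁻¹ = (u * u) * v.1 * u⁻¹ := by group
    _ = v.1 * u⁻¹ := by rw [hu2, one_mul]

/-- Two-point stabilisers are abelian. -/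
theorem Setting.pairStab_comm {b : Ω} (hb : b ≠ ((1 : G) : Ω)) {x y : G}
    (hx : x ∈ pairStab ((1 : G) : Ω) b) (hy : y ∈ pairStab ((1 : G) : Ω) b) : x * y = y * x := by
  obtain ⟨-, u, -, -, -, hu⟩ := S.exists_swap hb
  have h := hu (x * y) (Subgroup.mul_mem _ hx hy)
  have h' : u * (x * y) * u⁻¹ = x⁻¹ * y⁻¹ := by rw [← hu x hx, ← hu y hy]; group
  have : (x * y)⁻¹ = (y * x)⁻¹ := by rw [← h, h', mul_inv_rev y x]
  exact inv_injective this

/-- Inverting swaps exist for every pair. -/
theorem Setting.exists_swap' {a b : Ω} (hab : a ≠ b) :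
    ∃ u : G, u • a = b ∧ u • b = a ∧ ∀ x, x • a = a → x • b = b → u * x * u⁻¹ = x⁻¹ := by
  induction a using QuotientGroup.induction_on with
  | H g =>
    have hg : g • ((1 : G) : Ω) = (g : Ω) := by
      show ((g * 1 : G) : Ω) = _
      rw [mul_one]
    have hb : g⁻¹ • b ≠ ((1 : G) : Ω) := fun e => hab (by rw [inv_smul_eq_iff, hg] at e; exact e.symm)
    obtain ⟨-, u, -, h1, h2, h3⟩ := S.exists_swap hb
    refine ⟨g * u * g⁻¹, ?_, ?_, fun x hxa hxb => ?_⟩
    · rw [mul_smul, mul_smul, inv_smul_eq_iff.2 hg.symm, h1, smul_inv_smul]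
    · rw [mul_smul, mul_smul, h2, hg]
    · have hm : g⁻¹ * x * g ∈ pairStab ((1 : G) : Ω) (g⁻¹ • b) := by
        refine Subgroup.mem_inf.2 ⟨mem_stabilizer_iff.2 ?_, mem_stabilizer_iff.2 ?_⟩
        · rw [mul_smul, mul_smul, hg, hxa, inv_smul_eq_iff, hg]
        · rw [mul_smul, mul_smul, smul_inv_smul, hxb]
      calc g * u * g⁻¹ * x * (g * u * g⁻¹)⁻¹ = g * (u * (g⁻¹ * x * g) * u⁻¹) * g⁻¹ := by group
        _ = g * (g⁻¹ * x * g)⁻¹ * g⁻¹ := by rw [h3 _ hm]
        _ = x⁻¹ := by group

/-- `N = T D`. -/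
theorem Setting.exists_decomp {b : Ω} (hb : b ≠ ((1 : G) : Ω)) {z : G} (hz : z ∈ N) :
    ∃ τ ∈ T, ∃ e ∈ pairStab ((1 : G) : Ω) b, z = τ * e := by
  let f : T × pairStab ((1 : G) : Ω) b → N := fun p => ⟨(p.1 : G) * p.2,
    Subgroup.mul_mem _ (Subgroup.le_normalizer p.1.2)
      (smul_o_eq.1 (mem_stabilizer_iff.1 (Subgroup.mem_inf.1 p.2.2).1))⟩
  have hinj : Function.Injective f := by
    rintro ⟨a, e⟩ ⟨a', e'⟩ h
    have h' : (a : G) * e = a' * e' := congrArg Subtype.val h
    have h1 : (a' : G)⁻¹ * a = e' * (e : G)⁻¹ := by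
      rw [inv_mul_eq_iff_eq_mul, ← mul_assoc, ← h', mul_inv_cancel_right]
    have h2 : (a' : G)⁻¹ * a = 1 := S.pairStab_disjoint hb
      (h1 ▸ Subgroup.mul_mem _ e'.2 (Subgroup.inv_mem _ e.2)) (T.mul_mem (T.inv_mem a'.2) a.2)
    have h3 : (a : G) = a' := (inv_mul_eq_one.1 h2).symm
    rw [h3] at h'
    exact Prod.ext (Subtype.ext h3) (Subtype.ext (mul_left_cancel h'))
  have hcard : Nat.card (T × pairStab ((1 : G) : Ω) b) = Nat.card N := by
    rw [Nat.card_prod, (S.exists_swap hb).1, S.card_normalizer]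
  obtain ⟨⟨a, e⟩, he⟩ :=
    ((Nat.bijective_iff_injective_and_card f).2 ⟨hinj, hcard⟩).2 ⟨z, hz⟩
  exact ⟨a, a.2, e, e.2, (congrArg Subtype.val he).symm⟩

/-- No nontrivial element fixes the base point and two others. -/
theorem Setting.eq_one_of_three {b c : Ω} (hb : b ≠ ((1 : G) : Ω)) (hc : c ≠ ((1 : G) : Ω))
    (hbc : b ≠ c) {x : G} (hxo : x • ((1 : G) : Ω) = ((1 : G) : Ω)) (hxb : x • b = b)
    (hxc : x • c = c) : x = 1 := by
  obtain ⟨hcard, u, -, huo, hub, hu⟩ := S.exists_swap hb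
  obtain ⟨w, hwb, hwc, hw⟩ := S.exists_swap' hbc
  obtain ⟨v, hvc, hvo, hv⟩ := S.exists_swap' hc
  have hx : x ∈ pairStab ((1 : G) : Ω) b := Subgroup.mem_inf.2 ⟨hxo, hxb⟩
  have hz : v * w * u ∈ N := smul_o_eq.1 (by rw [mul_smul, mul_smul, huo, hwb, hvc])
  have hinv : v * w * u * x * (v * w * u)⁻¹ = x⁻¹ := by
    have h1 := hu x hx
    have h2 := hw x hxb hxc
    have h3 := hv x hxc hxo
    have h2' : w * x⁻¹ * w⁻¹ = x := by
      have := congrArg (fun y => y⁻¹) h2
      simpa [mul_assoc] using this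
    calc v * w * u * x * (v * w * u)⁻¹ = v * (w * (u * x * u⁻¹) * w⁻¹) * v⁻¹ := by group
      _ = v * x * v⁻¹ := by rw [h1, h2']
      _ = x⁻¹ := h3
  obtain ⟨τ, hτ, e, he, hze⟩ := S.exists_decomp hb hz
  have hex : e * x * e⁻¹ = x := by rw [S.pairStab_comm hb he hx, mul_inv_cancel_right]
  have h4 : τ * x * τ⁻¹ = x⁻¹ := by
    rw [← hinv, hze]
    calc τ * x * τ⁻¹ = τ * (e * x * e⁻¹) * τ⁻¹ := by rw [hex]
      _ = _ := by group
  have hxN : x ∈ N := smul_o_eq.1 hxo
  have h5 : x⁻¹ * x⁻¹ ∈ T := by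
    have h6 : x⁻¹ * x⁻¹ = τ * (x * τ⁻¹ * x⁻¹) := by
      calc x⁻¹ * x⁻¹ = τ * x * τ⁻¹ * x⁻¹ := by rw [h4]
        _ = _ := by group
    rw [h6]
    exact T.mul_mem hτ ((Subgroup.mem_normalizer_iff.1 hxN _).1 (T.inv_mem hτ))
  have h7 : x ^ 2 = 1 := by
    have := S.pairStab_disjoint hb (Subgroup.mul_mem _ (Subgroup.inv_mem _ hx) (Subgroup.inv_mem _ hx)) h5
    rw [← mul_inv_rev, inv_eq_one] at this
    rw [sq, this]
  exact S.pairStab_disjoint hb hx (S.mem_of_involution hxN h7)

/-- `T` is regular on the other points. -/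
theorem Setting.regular {y z : Ω} (hy : y ≠ ((1 : G) : Ω)) (hz : z ≠ ((1 : G) : Ω)) :
    ∃! τ : T, (τ : G) • y = z := by
  classical
  haveI := Fintype.ofFinite G
  haveI := Fintype.ofFinite Ω
  set o : Ω := ((1 : G) : Ω) with ho
  set d := T.relIndex N with hd
  have hd1 := S.one_lt_d
  -- counting fixed points
  let A := Σ c : {c : Ω // c ≠ o}, {x : pairStab o c.1 // x ≠ 1}
  let B := {n : N // (n : G) ∉ T}
  let φ : A → B := fun p => ⟨⟨p.2.1.1, smul_o_eq.1 (Subgroup.mem_inf.1 p.2.1.2).1⟩, fun h =>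
    p.2.2 (Subtype.ext (S.pairStab_disjoint p.1.2 p.2.1.2 h))⟩
  have hφ : Function.Injective φ := by
    rintro ⟨⟨c, hc⟩, x, hx⟩ ⟨⟨c', hc'⟩, x', hx'⟩ h
    have hxx : (x : G) = x' := congrArg (fun q : B => ((q : N) : G)) h
    have : c = c' := by
      by_contra hne
      refine hx (Subtype.ext (S.eq_one_of_three hc hc' hne (Subgroup.mem_inf.1 x.2).1
        (Subgroup.mem_inf.1 x.2).2 ?_))
      rw [hxx]
      exact (Subgroup.mem_inf.1 x'.2).2
    subst this
    have : x = x' := Subtype.ext hxx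
    subst this
    rfl
  have hA : Fintype.card A = Fintype.card {c : Ω // c ≠ o} * (d - 1) := by
    rw [Fintype.card_sigma, Finset.sum_const_nat (m := d - 1)]
    · rfl
    · intro c _
      rw [Fintype.card_subtype_compl, Fintype.card_subtype_eq, ← Nat.card_eq_fintype_card,
        (S.exists_swap c.2).1]
  have hB : Fintype.card B = Nat.card T * (d - 1) := by
    have h1 : Fintype.card {n : N // (n : G) ∈ T} = Nat.card T := by
      rw [← Nat.card_eq_fintype_card]
      exact Nat.card_congr (Subgroup.subgroupOfEquivOfLe (Subgroup.le_normalizer (H := T))).toEquiv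
    show Fintype.card {n : N // ¬ ((n : G) ∈ T)} = _
    rw [Fintype.card_subtype_compl, h1, ← Nat.card_eq_fintype_card, S.card_normalizer,
      Nat.mul_sub_one]
  have hle := Fintype.card_le_of_injective φ hφ
  rw [hA, hB] at hle
  have hΩ : Fintype.card {c : Ω // c ≠ o} ≤ Fintype.card T := by
    rw [← Nat.card_eq_fintype_card (α := T)]
    exact Nat.le_of_mul_le_mul_right hle (by omega)
  let ψ : T → {c : Ω // c ≠ o} := fun τ => ⟨(τ : G) • y, fun e => hy (by
    have h1 : (τ : G) • o = o := smul_o_eq.2 (Subgroup.le_normalizer τ.2)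
    exact MulAction.injective (τ : G) (e.trans h1.symm))⟩
  have hψ : Function.Injective ψ := fun τ σ h => by
    have h' : (τ : G) • y = (σ : G) • y := congrArg Subtype.val h
    have := S.semiregular (T.mul_mem (T.inv_mem σ.2) τ.2) hy (by rw [mul_smul, h', inv_smul_smul])
    exact Subtype.ext (inv_mul_eq_one.1 this).symm
  have hψb : Function.Bijective ψ := (Fintype.bijective_iff_injective_and_card ψ).2
    ⟨hψ, le_antisymm (Fintype.card_le_of_injective ψ hψ) hΩ⟩
  obtain ⟨τ, hτ⟩ := hψb.2 ⟨z, hz⟩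
  exact ⟨τ, congrArg Subtype.val hτ, fun σ hσ => hψ (Subtype.ext (hσ.trans (congrArg Subtype.val hτ).symm))⟩

theorem Setting.exists_ne_base : ∃ b : Ω, b ≠ ((1 : G) : Ω) := by
  by_contra h
  push Not at h
  have hNtop : N = ⊤ := (Subgroup.eq_top_iff' _).2 fun g => by
    rw [← smul_o_eq]; exact h _
  haveI : T.Normal := Subgroup.normalizer_eq_top_iff.1 hNtop
  haveI := S.nil
  -- all involutions lie in `T`, which is then nilpotent with odd quotient
  have hq : Group.IsSolvable (G ⧸ T) := by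
    by_contra hns
    obtain ⟨H, hH⟩ := Subgroup.exists_right_complement'_of_coprime S.coprime
    haveI := S.oddSolv H (by rw [← hH.symm.index_eq_card]; exact S.odd)
    exact hns (Group.isSolvable_of_surjective (f := (QuotientGroup.mk' T).comp H.subtype) fun q => by
      obtain ⟨g, rfl⟩ := QuotientGroup.mk'_surjective T q
      obtain ⟨⟨a, e⟩, he⟩ := hH.2 g
      refine ⟨e, ?_⟩
      show QuotientGroup.mk' T (e : G) = QuotientGroup.mk' T g
      rw [← he, map_mul, show QuotientGroup.mk' T (a : G) = 1 from (QuotientGroup.eq_one_iff _).2 a.2,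
        one_mul])
  exact S.notSolv (Group.isSolvable_of_ker_le_range T.subtype (QuotientGroup.mk' T)
    (by rw [QuotientGroup.ker_mk', Subgroup.range_subtype]))

theorem Setting.isSolvable_normalizer : Group.IsSolvable N := by
  obtain ⟨b, hb⟩ := S.exists_ne_base
  haveI := S.nil
  have hD : Group.IsSolvable (pairStab ((1 : G) : Ω) b) :=
    Group.isSolvable_of_comm fun x y => Subtype.ext (S.pairStab_comm hb x.2 y.2)
  have hle : pairStab ((1 : G) : Ω) b ≤ N := fun x hx =>
    smul_o_eq.1 (mem_stabilizer_iff.1 (Subgroup.mem_inf.1 hx).1)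
  have h := CfsgLib.ElementOrders.isSolvable_sup_of_le_normalizer (A := T) inferInstance hD hle
  have heq : T ⊔ pairStab ((1 : G) : Ω) b = N := le_antisymm (sup_le Subgroup.le_normalizer hle)
    fun z hz => by
      obtain ⟨τ, hτ, e, he, rfl⟩ := S.exists_decomp hb hz
      exact Subgroup.mul_mem_sup hτ he
  rwa [heq] at h

theorem Setting.odd_card_quotient : Odd (Nat.card Ω) := by
  rw [← Subgroup.index_eq_card]
  exact Odd.of_dvd_nat S.odd (Subgroup.index_dvd_of_le Subgroup.le_normalizer)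

/-- `G` is a Zassenhaus group on the cosets of `N(T)`. -/
theorem Setting.isZassenhaus : Cfsg.IsZassenhausGroup G Ω := by
  classical
  obtain ⟨b₀, hb₀⟩ := S.exists_ne_base
  set o : Ω := ((1 : G) : Ω) with ho
  have h3 : ∀ g : G, ∀ a b c : Ω, a ≠ b → b ≠ c → a ≠ c → g • a = a → g • b = b → g • c = c → g = 1 := by
    intro g a b c hab hbc hac ha hb hc
    induction a using QuotientGroup.induction_on with
    | H k =>
      have hk : k • o = (k : Ω) := by
        show ((k * 1 : G) : Ω) = _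
        rw [mul_one]
      have hf : ∀ p : Ω, g • p = p → (k⁻¹ * g * k) • (k⁻¹ • p) = k⁻¹ • p := fun p hp => by
        rw [mul_smul, mul_smul, smul_inv_smul, hp]
      have hko : k⁻¹ • (k : Ω) = o := inv_smul_eq_iff.2 hk.symm
      have := S.eq_one_of_three (b := k⁻¹ • b) (c := k⁻¹ • c)
        (fun e => hab (MulAction.injective k⁻¹ (hko.trans e.symm)))
        (fun e => hac (MulAction.injective k⁻¹ (hko.trans e.symm)))
        (fun e => hbc (MulAction.injective k⁻¹ e)) (by
          have := hf _ ha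
          rwa [hko] at this) (hf b hb) (hf c hc)
      calc g = k * (k⁻¹ * g * k) * k⁻¹ := by group
        _ = 1 := by rw [this]; group
  -- a second point besides `b₀`
  have hthird : ∃ c : Ω, c ≠ o ∧ c ≠ b₀ := by
    have htT : t ∈ T := S.mem
    refine ⟨t • b₀, fun e => ?_, fun e => ?_⟩
    · have h1 : t • o = o := smul_o_eq.2 (Subgroup.le_normalizer htT)
      exact hb₀ (MulAction.injective t (e.trans h1.symm))
    · have := S.semiregular htT hb₀ e
      have h2 := S.ord
      rw [this, orderOf_one] at h2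
      omega
  obtain ⟨c₀, hc₀, hcb⟩ := hthird
  refine ⟨⟨fun {g k} h => ?_⟩, ?_, h3, ?_, ?_⟩
  · have hfix : ∀ p : Ω, (k⁻¹ * g) • p = p := fun p => by rw [mul_smul, h p, inv_smul_smul]
    exact (inv_mul_eq_one.1 (h3 (k⁻¹ * g) o b₀ c₀ hb₀.symm hcb.symm hc₀.symm (hfix _) (hfix _)
      (hfix _))).symm
  · rw [MulAction.is_two_pretransitive_iff]
    have hbase : ∀ p q : Ω, p ≠ q → ∃ g : G, g • o = p ∧ g • b₀ = q := by
      intro p q hpq
      induction p using QuotientGroup.induction_on with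
      | H k =>
        have hk : k • o = (k : Ω) := by
          show ((k * 1 : G) : Ω) = _
          rw [mul_one]
        have hq : k⁻¹ • q ≠ o := fun e => hpq (by
          rw [inv_smul_eq_iff, hk] at e; exact e.symm)
        obtain ⟨τ, hτ, -⟩ := S.regular hb₀ hq
        refine ⟨k * (τ : G), ?_, ?_⟩
        · rw [mul_smul, smul_o_eq.2 (Subgroup.le_normalizer τ.2)]; exact hk
        · rw [mul_smul, hτ, smul_inv_smul]
    intro p q r s hpq hrs
    obtain ⟨g, hg1, hg2⟩ := hbase p q hpq
    obtain ⟨k, hk1, hk2⟩ := hbase r s hrs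
    exact ⟨k * g⁻¹, by rw [mul_smul, inv_smul_eq_iff.2 hg1.symm, hk1],
      by rw [mul_smul, inv_smul_eq_iff.2 hg2.symm, hk2]⟩
  · have h1 : 1 < Nat.card (pairStab o b₀) := by rw [(S.exists_swap hb₀).1]; exact S.one_lt_d
    obtain ⟨x, hx, hx1⟩ := (Subgroup.bot_or_exists_ne_one (pairStab o b₀)).resolve_left fun h => by
      rw [h, Subgroup.card_bot] at h1; omega
    exact ⟨x, hx1, o, b₀, hb₀.symm, (Subgroup.mem_inf.1 hx).1, (Subgroup.mem_inf.1 hx).2⟩
  · intro R hR htr
    by_contra hcon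
    push Not at hcon
    haveI := hR
    haveI := htr
    have hbot := hcon o
    have hcard : Nat.card R = Nat.card Ω := by
      refine Nat.card_congr (Equiv.ofBijective (fun r : R => (r : G) • o) ⟨fun r s h => ?_, fun p => ?_⟩)
      · have : s⁻¹ * r ∈ MulAction.stabilizer R o := by
          rw [MulAction.mem_stabilizer_iff, mul_smul, inv_smul_eq_iff]
          exact h
        have := hbot.le this
        rw [Subgroup.mem_bot, inv_mul_eq_one] at this
        exact this.symm
      · exact htr.exists_smul_eq o p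
    haveI := S.oddSolv R (by rw [hcard]; exact S.odd_card_quotient)
    haveI := S.isSolvable_normalizer
    haveI : Group.IsSolvable (G ⧸ R) :=
      Group.isSolvable_of_surjective (f := (QuotientGroup.mk' R).comp (Subgroup.subtype N)) fun q => by
        obtain ⟨g, rfl⟩ := QuotientGroup.mk'_surjective R q
        obtain ⟨r, hr⟩ := htr.exists_smul_eq o (g • o)
        have hn : (r : G)⁻¹ * g ∈ N := smul_o_eq.1 (by
          rw [mul_smul, inv_smul_eq_iff]; exact hr.symm)
        refine ⟨⟨_, hn⟩, ?_⟩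
        show QuotientGroup.mk' R ((r : G)⁻¹ * g) = QuotientGroup.mk' R g
        rw [map_mul, show QuotientGroup.mk' R ((r : G)⁻¹) = 1 from
          (QuotientGroup.eq_one_iff _).2 (R.inv_mem r.2), one_mul]
    exact S.notSolv (Group.isSolvable_of_ker_le_range R.subtype (QuotientGroup.mk' R)
      (by rw [QuotientGroup.ker_mk', Subgroup.range_subtype]))

end CfsgLib.MetacyclicP.CTI
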